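import Cfsg.Agent.Lib.Small.OrthPlusFourTwo
import Cfsg.Agent.Lib.Classical.OrthSymmetric
import Cfsg.Agent.Lib.Char.Basic
import Cfsg.Agent.S2544
import Cfsg.Agent.S0300

/-!
The two small exceptional orthogonal groups: transfer of the Steinberg character along a surjection.
-/

set_option autoImplicit false
set_option linter.unusedSectionVars false
set_option linter.style.haveILetI false

namespace Cfsg.Agent.Small.PolarSmall

/-- Having a Steinberg character is inherited through surjections with coprime kernel. -/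
theorem transfer {G H : Type*} [Group G] [Group H] [Finite G] (p : ℕ) [Fact p.Prime] (φ : G →* H)
    (hφ : Function.Surjective φ) {k : ℕ} (hk : Nat.Coprime p k) (hker : ∀ g, φ g = 1 → g ^ k = 1)
    (h : ∃ χ : H → ℂ, Cfsg.IsIrrCharacter H χ ∧ ∀ P : Sylow p H,
      χ 1 = Nat.card P ∧ ∀ x : H, x ∈ P → x ≠ 1 → χ x = 0) :
    ∃ χ : G → ℂ, Cfsg.IsIrrCharacter G χ ∧ ∀ P : Sylow p G,
      χ 1 = Nat.card P ∧ ∀ x : G, x ∈ P → x ≠ 1 → χ x = 0 := by
  obtain ⟨χ, ⟨d, ρ, hirr, rfl⟩, hP⟩ := h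
  let τ : Representation ℂ G (Fin d → ℂ) := MonoidHom.comp ρ φ
  have hτ : τ.IsIrreducible := by
    let f : Subrepresentation τ ≃o Subrepresentation ρ :=
      { toFun := fun T => ⟨T.toSubmodule, fun g v hv => by
          obtain ⟨a, rfl⟩ := hφ g
          exact T.apply_mem_toSubmodule a hv⟩
        invFun := fun T => ⟨T.toSubmodule, fun g v hv => T.apply_mem_toSubmodule (φ g) hv⟩
        left_inv := fun _ => rfl
        right_inv := fun _ => rfl
        map_rel_iff' := Iff.rfl }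
    exact f.isSimpleOrder
  refine ⟨τ.character, Cfsg.Agent.Char.isIrrCharacter_character τ hτ, fun P => ?_⟩
  have hinj : ∀ x ∈ (P : Subgroup G), φ x = 1 → x = 1 := by
    intro x hx h1
    obtain ⟨n, hn⟩ := P.2 ⟨x, hx⟩
    have hn' : x ^ p ^ n = 1 := congrArg Subtype.val hn
    rw [← orderOf_eq_one_iff, ← Nat.dvd_one]
    exact (hk.pow_left n) ▸ Nat.dvd_gcd (orderOf_dvd_of_pow_eq_one hn') (orderOf_dvd_of_pow_eq_one (hker x h1))
  haveI : Finite H := Finite.of_surjective φ hφ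
  obtain ⟨hone, hvan⟩ := hP (P.mapSurjective hφ)
  refine ⟨?_, fun x hx hx1 => ?_⟩
  · show ρ.character (φ 1) = _
    rw [map_one, hone, Sylow.coe_mapSurjective]
    congr 1
    refine (Nat.card_congr (Equiv.ofBijective (fun x : (P : Subgroup G) =>
      (⟨φ x, Subgroup.mem_map_of_mem φ x.2⟩ : (P : Subgroup G).map φ)) ⟨fun x y e => ?_, ?_⟩)).symm
    · have e' : φ x = φ y := congrArg Subtype.val e
      have := hinj _ (mul_mem x.2 (inv_mem y.2)) (by rw [map_mul, map_inv, e', mul_inv_cancel])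
      exact Subtype.ext (mul_inv_eq_one.1 this)
    · rintro ⟨_, x, hx, rfl⟩
      exact ⟨⟨x, hx⟩, rfl⟩
  · exact hvan (φ x) (Subgroup.mem_map_of_mem φ hx) fun e => hx1 (hinj x hx e)

open Cfsg.Agent.Small.O4Two Matrix

theorem T_det : ∀ s, (T s).det = 1 := by decide +kernel
theorem T_mul : ∀ s t, T (s * t) = T s * T t := by decide +kernel
theorem T_one : T 1 = 1 := by decide +kernel
theorem T_surj : ∀ M : Matrix (Fin 2) (Fin 2) (ZMod 2), M.det = 1 → ∃ s, T s = M := by decide +kernel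
theorem T_inj : ∀ s, T s = 1 → s = 1 := by decide +kernel

/-- The permutations of three letters as matrices of determinant one. -/
def toSL : Equiv.Perm (Fin 3) →* SpecialLinearGroup (Fin 2) (ZMod 2) where
  toFun s := ⟨T s, T_det s⟩
  map_one' := Subtype.ext T_one
  map_mul' s t := Subtype.ext (T_mul s t)

theorem sq_two : ∀ c : ZMod 2, c ^ 2 = 1 → c = 1 := by decide

theorem perm_three : ∃ χ : Equiv.Perm (Fin 3) → ℂ, Cfsg.IsIrrCharacter (Equiv.Perm (Fin 3)) χ ∧
    ∀ P : Sylow 2 (Equiv.Perm (Fin 3)), χ 1 = Nat.card P ∧ ∀ x : Equiv.Perm (Fin 3), x ∈ P → x ≠ 1 → χ x = 0 := by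
  haveI : Fact (Nat.Prime 2) := ⟨Nat.prime_two⟩
  refine transfer 2 ((QuotientGroup.mk' _).comp toSL) ?_ (k := 1) (Nat.coprime_one_right 2) (fun g hg => ?_)
    (S2544.result (F := ZMod 2) 2 2 le_rfl)
  · exact (QuotientGroup.mk'_surjective _).comp fun M => by
      obtain ⟨s, hs⟩ := T_surj M.1 M.2
      exact ⟨s, Subtype.ext hs⟩
  · have h : toSL g ∈ Subgroup.center (SpecialLinearGroup (Fin 2) (ZMod 2)) := by
      rwa [MonoidHom.comp_apply, QuotientGroup.mk'_apply, QuotientGroup.eq_one_iff] at hg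
    obtain ⟨c, hc, e⟩ := Matrix.SpecialLinearGroup.mem_center_iff.1 h
    rw [Fintype.card_fin] at hc
    have hc1 : c = 1 := sq_two c hc
    subst hc1
    rw [pow_one]
    refine T_inj g ?_
    show (toSL g).1 = 1
    rw [← e]
    exact map_one _

abbrev S3 := Equiv.Perm (Fin 3)

theorem plus_four_two {F : Type*} [Field F] [Fintype F] (hF : Fintype.card F = 2) :
    ∃ χ : Cfsg.POmega F (Cfsg.quadFormPlus 2 F) → ℂ, Cfsg.IsIrrCharacter (Cfsg.POmega F (Cfsg.quadFormPlus 2 F)) χ ∧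
      ∀ P : Sylow 2 (Cfsg.POmega F (Cfsg.quadFormPlus 2 F)),
        χ 1 = Nat.card P ∧ ∀ x : Cfsg.POmega F (Cfsg.quadFormPlus 2 F), x ∈ P → x ≠ 1 → χ x = 0 := by
  haveI : Fact (Nat.Prime 2) := ⟨Nat.prime_two⟩
  let r : F ≃+* ZMod 2 := (ZMod.ringEquivOfPrime F Nat.prime_two hF).symm
  let E := Cfsg.Agent.Classical.OSymm.fieldEquiv r (Cfsg.quadFormPlus 2 F) (Cfsg.quadFormPlus 2 (ZMod 2))
    (fun x => by simp [Cfsg.quadFormPlus, map_sum])
  have hcomm : ∀ s t, Commute (L s) (R t) := fun s t => Subtype.ext (Units.ext (lft_rgt s t))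
  let f : S3 × S3 →* O := L.noncommCoprod R hcomm
  have hf : Function.Injective f := by
    refine (injective_iff_map_eq_one _).2 ?_
    rintro ⟨s, t⟩ hst
    rw [MonoidHom.noncommCoprod_apply] at hst
    have h1 : L s = R t⁻¹ := by rw [map_inv]; exact eq_inv_of_mul_eq_one_left hst
    have hs : s = 1 := lft_eq_rgt s t⁻¹
      (congrArg (fun x : O => ((x.1 : GL I (ZMod 2)) : Matrix I I (ZMod 2))) h1)
    subst hs
    rw [map_one, one_mul] at hst
    rw [rgt_inj t (congrArg (fun x : O => ((x.1 : GL I (ZMod 2)) : Matrix I I (ZMod 2))) hst)]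
    rfl
  have hg2 : g * g = 1 := Subtype.ext (Units.ext swap_sq)
  have hgi : g⁻¹ = g := inv_eq_of_mul_eq_one_right hg2
  have hgL : ∀ s, g * L s * g⁻¹ = R s := fun s => by rw [hgi]; exact Subtype.ext (Units.ext (swap_conj s))
  have hgR : ∀ s, g * R s * g⁻¹ = L s := fun s => by
    rw [← hgL, hgi, mul_assoc, mul_assoc, hg2, mul_one, ← mul_assoc, hg2, one_mul]
  have hf_apply : ∀ x : S3 × S3, f x = L x.1 * R x.2 := fun x => L.noncommCoprod_apply R hcomm x
  have hgf : ∀ x : S3 × S3, g * f x * g⁻¹ = f (x.2, x.1) := fun x => by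
    rw [hf_apply, hf_apply, show g * (L x.1 * R x.2) * g⁻¹ = (g * L x.1 * g⁻¹) * (g * R x.2 * g⁻¹) by group,
      hgL, hgR, (hcomm _ _).symm.eq]
  -- the index two subgroup
  have hidx : f.range.index = 2 := by
    have h := f.range.card_mul_index
    rw [← Nat.card_congr (MonoidHom.ofInjective hf).toEquiv, Nat.card_prod, Nat.card_perm, Nat.card_fin,
      Cfsg.Agent.Small.O4Two.result.1] at h
    norm_num [Nat.factorial] at h
    omega
  have hgn : g ∉ f.range := by
    rintro ⟨x, hx⟩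
    have key : ∀ s, L (x.1 * s * x.1⁻¹) = R s := fun s => by
      rw [← hgL s, ← hx, ← show f (s, 1) = L s by rw [hf_apply, map_one, mul_one], ← map_inv, ← map_mul, ← map_mul,
        hf_apply, map_mul, Prod.snd_mul, Prod.snd_inv]
      simp
    have := lft_eq_rgt _ _ (congrArg (fun x : O => ((x.1 : GL I (ZMod 2)) : Matrix I I (ZMod 2))) (key (Equiv.swap 0 1)))
    exact absurd (conj_eq_one_iff.1 this) (by decide)
  have hsplit : ∀ u : O, u ∈ f.range ∨ u * g⁻¹ ∈ f.range := fun u => by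
    by_cases hu : u ∈ f.range
    · exact Or.inl hu
    · refine Or.inr ((Subgroup.mul_mem_iff_of_index_two hidx).2 ?_)
      simp [hu, hgn]
  -- the derived group
  let ε : S3 × S3 →* ℤˣ := Equiv.Perm.sign.coprod Equiv.Perm.sign
  let K : Subgroup O := ε.ker.map f
  have hKmem : ∀ x, f x ∈ K ↔ ε x = 1 := fun x =>
    ⟨fun ⟨y, hy, e⟩ => hf e ▸ hy, fun h => ⟨x, h, rfl⟩⟩
  have hswap : ∀ x : S3 × S3, ε (x.2, x.1) = ε x := fun x => mul_comm _ _
  haveI : K.Normal := by
    have hin : ∀ x : S3 × S3, ∀ k ∈ K, f x * k * (f x)⁻¹ ∈ K := by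
      rintro x _ ⟨y, hy, rfl⟩
      rw [← map_inv, ← map_mul, ← map_mul]
      exact Subgroup.mem_map_of_mem f (Subgroup.Normal.conj_mem inferInstance y hy x)
    refine ⟨fun k hk u => ?_⟩
    rcases hsplit u with ⟨x, rfl⟩ | ⟨x, hx⟩
    · exact hin x k hk
    · obtain ⟨y, hy, rfl⟩ := hk
      have : u * f y * u⁻¹ = f x * (g * f y * g⁻¹) * (f x)⁻¹ := by rw [hx]; group
      rw [this, hgf]
      exact hin x _ ((hKmem _).2 ((hswap y).trans hy))
  have hΩ : commutator O ≤ K := by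
    refine Subgroup.Normal.quotient_commutative_iff_commutator_le.1 ⟨⟨?_⟩⟩
    have hff : ∀ x y : S3 × S3, (QuotientGroup.mk (f x) * QuotientGroup.mk (f y) : O ⧸ K) =
        QuotientGroup.mk (f y) * QuotientGroup.mk (f x) := fun x y => by
      rw [← QuotientGroup.mk_mul, ← QuotientGroup.mk_mul, QuotientGroup.eq, ← map_mul, ← map_mul, ← map_inv, ← map_mul,
        hKmem]
      simp only [map_mul, map_inv]
      simp [mul_comm]
    have hfg : ∀ x : S3 × S3, Commute (QuotientGroup.mk g : O ⧸ K) (QuotientGroup.mk (f x)) := fun x => by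
      show (_ * _ : O ⧸ K) = _
      rw [← QuotientGroup.mk_mul, ← QuotientGroup.mk_mul, QuotientGroup.eq,
        show (g * f x)⁻¹ * (f x * g) = g⁻¹ * ((g * (f x)⁻¹ * g⁻¹) * f x) * g by group, ← map_inv, hgf, ← map_mul]
      have hm : f (((x⁻¹).2, (x⁻¹).1) * x) ∈ K := (hKmem _).2 (by rw [map_mul, hswap, map_inv, inv_mul_cancel])
      simpa using Subgroup.Normal.conj_mem inferInstance _ hm g⁻¹
    have hgen : ∀ u : O, ∃ x, (QuotientGroup.mk u : O ⧸ K) = QuotientGroup.mk (f x) ∨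
        (QuotientGroup.mk u : O ⧸ K) = QuotientGroup.mk (f x) * QuotientGroup.mk g := fun u => by
      rcases hsplit u with ⟨x, rfl⟩ | ⟨x, hx⟩
      · exact ⟨x, Or.inl rfl⟩
      · exact ⟨x, Or.inr (by rw [← QuotientGroup.mk_mul, hx, inv_mul_cancel_right])⟩
    intro a b
    induction a using QuotientGroup.induction_on with | H u => ?_
    induction b using QuotientGroup.induction_on with | H v => ?_
    have hff' : ∀ x y : S3 × S3, Commute (QuotientGroup.mk (f x) : O ⧸ K) (QuotientGroup.mk (f y)) := hff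
    obtain ⟨x, hu | hu⟩ := hgen u <;> obtain ⟨y, hv | hv⟩ := hgen v <;> rw [hu, hv] <;>
      show Commute _ _
    · exact hff' x y
    · exact (hff' x y).mul_right (hfg x).symm
    · exact (hff' x y).mul_left (hfg y)
    · exact ((hff' x y).mul_right (hfg x).symm).mul_left ((hfg y).mul_right (Commute.refl _))
  -- the first projection of the derived group
  let ψ₀ : ↥(commutator O) →* S3 := (MonoidHom.fst S3 S3).comp ((MonoidHom.ofInjective hf).symm.toMonoidHom.comp
    (Subgroup.inclusion (hΩ.trans (Subgroup.map_le_range f ε.ker))))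
  have hψ₀ : ∀ (w : ↥(commutator O)) (x : S3 × S3), f x = w.1 → ψ₀ w = x.1 := fun w x e => by
    show ((MonoidHom.ofInjective hf).symm _).1 = x.1
    refine congrArg Prod.fst ((MulEquiv.symm_apply_eq _).2 (Subtype.ext ?_))
    exact e.symm
  have hE : (commutator ↥(Cfsg.isometryGroup F (Cfsg.quadFormPlus 2 F))).map E.toMonoidHom = commutator O := by
    rw [commutator_def, Subgroup.map_commutator, Subgroup.map_top_of_surjective _ E.surjective, ← commutator_def]
  let ψ : ↥(Cfsg.Omega F (Cfsg.quadFormPlus 2 F)) →* S3 :=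
    ψ₀.comp ((MulEquiv.subgroupCongr hE).toMonoidHom.comp
      (E.toMonoidHom.subgroupMap (commutator ↥(Cfsg.isometryGroup F (Cfsg.quadFormPlus 2 F)))))
  have hψs : Function.Surjective ψ := by
    intro s
    have hmem : f (s⁻¹, s) ∈ commutator O := by
      have : g * L s * g⁻¹ * (L s)⁻¹ ∈ commutator O := by
        rw [commutator_def]
        exact Subgroup.commutator_mem_commutator (Subgroup.mem_top g) (Subgroup.mem_top (L s))
      rw [hgL, ← map_inv, ← (hcomm s⁻¹ s).eq, ← hf_apply (s⁻¹, s)] at this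
      exact this
    obtain ⟨v, hv, e⟩ := hE.ge (inv_mem hmem)
    refine ⟨⟨v, hv⟩, (hψ₀ _ (s, s⁻¹) ?_).trans rfl⟩
    show f (s, s⁻¹) = E v
    rw [show (s, s⁻¹) = ((s⁻¹, s) : S3 × S3)⁻¹ by simp, map_inv]
    exact e.symm
  have hker : ∀ w, ψ w = 1 → w ^ 3 = 1 := by
    intro w hw
    obtain ⟨x, hx, e⟩ := hΩ (hE.le ⟨w.1, w.2, rfl⟩ : E w.1 ∈ commutator O)
    have h1 : x.1 = 1 := (hψ₀ _ x e).symm.trans hw
    have h2 : Equiv.Perm.sign x.2 = 1 := by
      have : ε x = 1 := hx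
      simpa [ε, MonoidHom.coprod_apply, h1] using this
    have h3 : x ^ 3 = 1 := Prod.ext (by simp [h1]) ((by decide : ∀ t : S3, Equiv.Perm.sign t = 1 → t ^ 3 = 1) _ h2)
    refine Subtype.ext (E.injective ?_)
    show E (w.1 ^ 3) = E 1
    rw [map_pow, map_one, ← show f x = E w.1 from e, ← map_pow, h3, map_one]
  have hz : Subgroup.center _ ≤ ψ.ker := fun z hz => by
    refine (by decide : ∀ c : S3, (∀ t, c * t = t * c) → c = 1) (ψ z) fun t => ?_
    obtain ⟨y, rfl⟩ := hψs t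
    rw [← map_mul, ← map_mul, Subgroup.mem_center_iff.1 hz y]
  refine transfer 2 (QuotientGroup.lift _ ψ hz) (fun s => ?_) (k := 3) (by norm_num) (fun q hq => ?_) perm_three
  · obtain ⟨y, hy⟩ := hψs s
    exact ⟨y, hy⟩
  · induction q using QuotientGroup.induction_on with | H w => ?_
    rw [← QuotientGroup.mk_pow, hker w hq, QuotientGroup.mk_one]

theorem minus_four_two {F : Type*} [Field F] [Fintype F] (hF : Fintype.card F = 2) (a b : F)
    (hab : ∀ z₁ z₂ : F, z₁ ^ 2 + a * z₁ * z₂ + b * z₂ ^ 2 = 0 → z₁ = 0 ∧ z₂ = 0) :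
    ∃ χ : Cfsg.POmega F (Cfsg.quadFormMinus 1 F a b) → ℂ,
      Cfsg.IsIrrCharacter (Cfsg.POmega F (Cfsg.quadFormMinus 1 F a b)) χ ∧
      ∀ P : Sylow 2 (Cfsg.POmega F (Cfsg.quadFormMinus 1 F a b)),
        χ 1 = Nat.card P ∧ ∀ x : Cfsg.POmega F (Cfsg.quadFormMinus 1 F a b), x ∈ P → x ≠ 1 → χ x = 0 := by
  haveI : Fact (Nat.Prime 2) := ⟨Nat.prime_two⟩
  haveI : Fintype (GaloisField 2 2) := Fintype.ofFinite _
  have hK : Fintype.card (GaloisField 2 2) = 2 ^ 2 := by
    rw [← Nat.card_eq_fintype_card, GaloisField.card 2 2 two_ne_zero]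
  obtain ⟨e⟩ := S0300.result (K := GaloisField 2 2) hF hK a b hab
  exact transfer 2 e.toMonoidHom e.surjective (k := 1) (Nat.coprime_one_right 2)
    (fun g hg => by rw [pow_one]; exact (map_eq_one_iff e e.injective).1 hg)
    (S2544.result (F := GaloisField 2 2) 2 2 le_rfl)

end Cfsg.Agent.Small.PolarSmall
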